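import Groth.Agent.Lib.FlatFP.TorShift
import Mathlib.RingTheory.Filtration
import Mathlib.LinearAlgebra.DirectSum.Finsupp
import Mathlib.LinearAlgebra.TensorProduct.Quotient
import Mathlib.RingTheory.Noetherian.Basic

/-!
# Transition maps of `Tor (M, R/I^n)` are eventually zero with a linear shift
-/

set_option autoImplicit false
universe u

open CategoryTheory TensorProduct

namespace GrothLib.TorPro

variable {R : Type u} [CommRing R]

/-- `φ` kills the homology of `M ⊗ -` in degree `j + 1`. -/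
def Kills (M : Type u) [AddCommGroup M] [Module R M] {C D : ChainComplex (ModuleCat.{u} R) ℕ} (φ : C ⟶ D)
    (j : ℕ) : Prop :=
  ∀ z : M ⊗[R] C.X (j + 1), (C.d (j + 1) j).hom.lTensor M z = 0 →
    ∃ y : M ⊗[R] D.X (j + 2), (D.d (j + 2) (j + 1)).hom.lTensor M y = (φ.f (j + 1)).hom.lTensor M z

/-- `φ` kills the kernel of `H_0(K ⊗ -) → H_0(F ⊗ -)`. -/
def Kills₀ {K F : Type u} [AddCommGroup K] [Module R K] [AddCommGroup F] [Module R F] (ι : K →ₗ[R] F)
    {C D : ChainComplex (ModuleCat.{u} R) ℕ} (φ : C ⟶ D) : Prop :=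
  ∀ (w : K ⊗[R] C.X 0) (v : F ⊗[R] C.X 1), (C.d 1 0).hom.lTensor F v = ι.rTensor (C.X 0) w →
    ∃ y : K ⊗[R] D.X 1, (D.d 1 0).hom.lTensor K y = (φ.f 0).hom.lTensor K w

section comm

variable {M N : Type u} [AddCommGroup M] [Module R M] [AddCommGroup N] [Module R N] (g : M →ₗ[R] N)
  {P Q : Type u} [AddCommGroup P] [Module R P] [AddCommGroup Q] [Module R Q] (d : P →ₗ[R] Q)

theorem comm_apply (z : M ⊗[R] P) : g.rTensor Q (d.lTensor M z) = d.lTensor N (g.rTensor P z) :=
  (LinearMap.congr_fun (LinearMap.rTensor_comp_lTensor (f := g) (g := d)) z).trans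
    (LinearMap.congr_fun (LinearMap.lTensor_comp_rTensor (f := g) (g := d)) z).symm

end comm

theorem chain_comm {C D : ChainComplex (ModuleCat.{u} R) ℕ} (φ : C ⟶ D) (i j : ℕ) (M : Type u)
    [AddCommGroup M] [Module R M] (z : M ⊗[R] C.X i) :
    (φ.f j).hom.lTensor M ((C.d i j).hom.lTensor M z) = (D.d i j).hom.lTensor M ((φ.f i).hom.lTensor M z) := by
  rw [← LinearMap.lTensor_comp_apply, ← LinearMap.lTensor_comp_apply, ← ModuleCat.hom_comp,
    ← ModuleCat.hom_comp, φ.comm i j]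

theorem comp_f_apply {C D E : ChainComplex (ModuleCat.{u} R) ℕ} (φ : C ⟶ D) (ψ : D ⟶ E) (i : ℕ) (M : Type u)
    [AddCommGroup M] [Module R M] (z : M ⊗[R] C.X i) :
    ((φ ≫ ψ).f i).hom.lTensor M z = (ψ.f i).hom.lTensor M ((φ.f i).hom.lTensor M z) := by
  rw [← LinearMap.lTensor_comp_apply, ← ModuleCat.hom_comp]; rfl

theorem d_d (C : ChainComplex (ModuleCat.{u} R) ℕ) (i j k : ℕ) (M : Type u) [AddCommGroup M] [Module R M]
    (z : M ⊗[R] C.X i) : (C.d j k).hom.lTensor M ((C.d i j).hom.lTensor M z) = 0 := by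
  rw [← LinearMap.lTensor_comp_apply, ← ModuleCat.hom_comp, C.d_comp_d]
  simp

section shift

variable {K F M : Type u} [AddCommGroup K] [Module R K] [AddCommGroup F] [Module R F] [AddCommGroup M]
  [Module R M] {ι : K →ₗ[R] F} {g : F →ₗ[R] M} (hι : Function.Injective ι) (hex : Function.Exact ι g)
  (hg : Function.Surjective g) {C D E : ChainComplex (ModuleCat.{u} R) ℕ} {φ : C ⟶ D} {ψ : D ⟶ E}
  (hC : ∀ i, Module.Flat R (C.X i))

include hex in
theorem shift_aux (j : ℕ) (hψ : Kills F ψ j) (zt : F ⊗[R] C.X (j + 1)) (w : K ⊗[R] C.X j)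
    (hw : ι.rTensor (C.X j) w = (C.d (j + 1) j).hom.lTensor F zt) (y : K ⊗[R] D.X (j + 1))
    (hy : (D.d (j + 1) j).hom.lTensor K y = (φ.f j).hom.lTensor K w) :
    ∃ u : M ⊗[R] E.X (j + 2), (E.d (j + 2) (j + 1)).hom.lTensor M u =
      ((φ ≫ ψ).f (j + 1)).hom.lTensor M (g.rTensor (C.X (j + 1)) zt) := by
  obtain ⟨u, hu⟩ := hψ ((φ.f (j + 1)).hom.lTensor F zt - ι.rTensor (D.X (j + 1)) y) (by
    rw [map_sub, ← chain_comm, ← hw, ← comm_apply, ← comm_apply, hy, sub_self])
  refine ⟨g.rTensor (E.X (j + 2)) u, ?_⟩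
  rw [← comm_apply, hu, map_sub, map_sub, comp_f_apply, comm_apply, comm_apply, comm_apply,
    ← LinearMap.rTensor_comp_apply, show g.comp ι = 0 from LinearMap.ext hex.apply_apply_eq_zero,
    LinearMap.rTensor_zero, LinearMap.zero_apply, map_zero, sub_zero]

include hex hg in
theorem kills_zero (hφ : Kills₀ ι φ) (hψ : Kills F ψ 0) : Kills M (φ ≫ ψ) 0 := fun z hz => by
  obtain ⟨zt, rfl⟩ := LinearMap.rTensor_surjective (C.X 1) hg z
  rw [← comm_apply] at hz
  obtain ⟨w, hw⟩ := (rTensor_exact (C.X 0) hex hg _).1 hz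
  obtain ⟨y, hy⟩ := hφ w zt hw.symm
  exact shift_aux hex 0 hψ zt w hw y hy

include hι hex hg hC in
theorem kills_succ (j : ℕ) (hφ : Kills K φ j) (hψ : Kills F ψ (j + 1)) : Kills M (φ ≫ ψ) (j + 1) :=
  fun z hz => by
  obtain ⟨zt, rfl⟩ := LinearMap.rTensor_surjective (C.X (j + 2)) hg z
  rw [← comm_apply] at hz
  obtain ⟨w, hw⟩ := (rTensor_exact (C.X (j + 1)) hex hg _).1 hz
  have := hC j
  obtain ⟨y, hy⟩ := hφ w (Module.Flat.rTensor_preserves_injective_linearMap (M := C.X j) ι hι (by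
    rw [comm_apply, hw, map_zero, d_d]))
  exact shift_aux hex (j + 1) hψ zt w hw y hy

end shift

theorem kills_of_flat {F : Type u} [AddCommGroup F] [Module R F] [Module.Flat R F] {N : ModuleCat.{u} R}
    (P : ProjectiveResolution N) {D : ChainComplex (ModuleCat.{u} R) ℕ} (φ : P.complex ⟶ D) (j : ℕ) :
    Kills F φ j := fun z hz => by
  have h := P.complex_exactAt_succ j
  rw [HomologicalComplex.exactAt_iff' _ (j + 2) (j + 1) j (by simp) (by simp),
    ShortComplex.ShortExact.moduleCat_exact_iff_function_exact] at h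
  obtain ⟨y, rfl⟩ := (Module.Flat.lTensor_exact F h z).1 hz
  exact ⟨(φ.f (j + 2)).hom.lTensor F y, (chain_comm φ (j + 2) (j + 1) F y).symm⟩

theorem kills_finsupp {α : Type u} {Q : Type u} [AddCommGroup Q] [Module R Q]
    {C D : ChainComplex (ModuleCat.{u} R) ℕ} {φ : C ⟶ D} {j : ℕ} (h : Kills Q φ j) :
    Kills (α →₀ Q) φ j := fun z hz => by
  classical
  have key : ∀ (P P' : ModuleCat.{u} R) (f : P ⟶ P') (x : (α →₀ Q) ⊗[R] P) (a : α),
      TensorProduct.finsuppLeft R R Q P' α (f.hom.lTensor (α →₀ Q) x) a =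
        f.hom.lTensor Q (TensorProduct.finsuppLeft R R Q P α x a) := by
    intro P P' f x a
    induction x using TensorProduct.induction_on with
    | zero => simp
    | tmul p q => simp
    | add p q hp hq => simp only [map_add, Finsupp.add_apply, hp, hq]
  let e := TensorProduct.finsuppLeft R R Q (C.X (j + 1)) α
  choose y hy using fun a => h (e z a) (by
    rw [← key, hz, map_zero, Finsupp.zero_apply])
  let Y : α →₀ Q ⊗[R] D.X (j + 2) :=
    Finsupp.onFinset (e z).support (fun a => if a ∈ (e z).support then y a else 0)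
      (fun a ha => by by_contra h'; exact ha (if_neg h'))
  refine ⟨(TensorProduct.finsuppLeft R R Q (D.X (j + 2)) α).symm Y, ?_⟩
  refine (TensorProduct.finsuppLeft R R Q (D.X (j + 1)) α).injective (Finsupp.ext fun a => ?_)
  rw [key, key, LinearEquiv.apply_symm_apply, Finsupp.onFinset_apply]
  split_ifs with ha
  · exact hy a
  · rw [map_zero]
    exact (congrArg _ (Finsupp.notMem_support_iff.1 ha)).trans (map_zero _) |>.symm

section powers

variable (I : Ideal R)

/-- `R/I^n`. -/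
noncomputable abbrev Qn (n : ℕ) : ModuleCat.{u} R := ModuleCat.of R (R ⧸ I ^ n)

/-- A resolution of `R/I^n`. -/
noncomputable abbrev res (n : ℕ) : ProjectiveResolution (Qn I n) := projectiveResolution (Qn I n)

/-- `π` on elements. -/
noncomputable abbrev aug (n : ℕ) : (res I n).complex.X 0 →ₗ[R] R ⧸ I ^ n := ((res I n).π.f 0).hom

/-- The projection as a linear map. -/
noncomputable abbrev projₗ {n m : ℕ} (h : n ≤ m) : (R ⧸ I ^ m) →ₗ[R] R ⧸ I ^ n :=
  Submodule.mapQ (I ^ m) (I ^ n) LinearMap.id (Ideal.pow_le_pow_right h)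

/-- The projection. -/
noncomputable def proj {n m : ℕ} (h : n ≤ m) : Qn I m ⟶ Qn I n :=
  ModuleCat.ofHom (Submodule.mapQ (I ^ m) (I ^ n) LinearMap.id (Ideal.pow_le_pow_right h))

/-- A lift of the projection. -/
def Lifts {n m : ℕ} (h : n ≤ m) (φ : (res I m).complex ⟶ (res I n).complex) : Prop :=
  (aug I n).comp (φ.f 0).hom = (projₗ I h).comp (aug I m)

theorem exists_lifts {n m : ℕ} (h : n ≤ m) : ∃ φ, Lifts I h φ :=
  ⟨ProjectiveResolution.lift (proj I h) (res I m) (res I n),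
    congrArg ModuleCat.Hom.hom (ProjectiveResolution.lift_commutes_zero (proj I h) (res I m) (res I n))⟩

theorem lifts_comp {a b c : ℕ} (h : a ≤ b) (h' : b ≤ c) {φ : (res I c).complex ⟶ (res I b).complex}
    {ψ : (res I b).complex ⟶ (res I a).complex} (hφ : Lifts I h' φ) (hψ : Lifts I h ψ) :
    Lifts I (h.trans h') (φ ≫ ψ) := by
  show (aug I a).comp ((ψ.f 0).hom.comp (φ.f 0).hom) = _
  rw [← LinearMap.comp_assoc, hψ, LinearMap.comp_assoc, hφ, ← LinearMap.comp_assoc]
  exact congrArg (fun f => LinearMap.comp f (aug I c))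
    (Submodule.linearMap_qext _ (LinearMap.ext fun _ => rfl))

theorem aug_exact (n : ℕ) : Function.Exact ((res I n).complex.d 1 0).hom (aug I n) :=
  (ShortComplex.ShortExact.moduleCat_exact_iff_function_exact _).1 (res I n).exact₀

theorem aug_surjective (n : ℕ) : Function.Surjective (aug I n) :=
  (ModuleCat.epi_iff_surjective ((res I n).π.f 0)).1 inferInstance

/-- Elements of a submodule in `I^m` times the ambient module are in `I^n` times it. -/
theorem kills₀_of_le {K F : Type u} [AddCommGroup K] [Module R K] [AddCommGroup F] [Module R F]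
    (ι : K →ₗ[R] F) {n m : ℕ} (h : n ≤ m)
    (hle : ∀ k : K, ι k ∈ I ^ m • (⊤ : Submodule R F) → k ∈ I ^ n • (⊤ : Submodule R K))
    {φ : (res I m).complex ⟶ (res I n).complex} (hφ : Lifts I h φ) : Kills₀ ι φ := fun w v hv => by
  refine ((lTensor_exact K (aug_exact I n) (aug_surjective I n)) _).1 ?_
  rw [← LinearMap.lTensor_comp_apply,
    show (aug I n).comp (φ.f 0).hom = (projₗ I h).comp (aug I m) from hφ,
    LinearMap.lTensor_comp_apply]
  have h0 : ι.rTensor (R ⧸ I ^ m) ((aug I m).lTensor K w) = 0 := by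
    rw [comm_apply, ← hv]
    exact ((lTensor_exact F (aug_exact I m) (aug_surjective I m)) _).2 ⟨v, rfl⟩
  generalize (aug I m).lTensor K w = x at h0 ⊢
  obtain ⟨k, rfl⟩ : ∃ k : K, k ⊗ₜ[R] (1 : R ⧸ I ^ m) = x := by
    obtain ⟨k, hk⟩ := Submodule.Quotient.mk_surjective _ (TensorProduct.tensorQuotEquivQuotSMul K (I ^ m) x)
    exact ⟨k, by rw [← TensorProduct.tensorQuotEquivQuotSMul_symm_mk, hk, LinearEquiv.symm_apply_apply]⟩
  have h1 : ι k ∈ I ^ m • (⊤ : Submodule R F) := by
    refine (Submodule.Quotient.mk_eq_zero _).1 ?_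
    rw [← one_smul R (ι k), ← TensorProduct.tensorQuotEquivQuotSMul_tmul_mk,
      show ι k ⊗ₜ[R] Ideal.Quotient.mk (I ^ m) 1 = ι.rTensor (R ⧸ I ^ m) (k ⊗ₜ[R] (1 : R ⧸ I ^ m)) from rfl,
      h0, map_zero]
  show k ⊗ₜ[R] Ideal.Quotient.mk (I ^ n) 1 = 0
  refine (TensorProduct.tensorQuotEquivQuotSMul K (I ^ n)).injective ?_
  rw [map_zero, TensorProduct.tensorQuotEquivQuotSMul_tmul_mk, one_smul, Submodule.Quotient.mk_eq_zero]
  exact hle k h1

theorem flat_res (n i : ℕ) : Module.Flat R ((res I n).complex.X i) := by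
  haveI : Module.Projective R ((res I n).complex.X i) :=
    (IsProjective.iff_projective _).2 ((res I n).projective i)
  infer_instance

/-- A shift killing `Tor_{j+1}(M, -)` on the powers of `I`. -/
def Shift (M : Type u) [AddCommGroup M] [Module R M] (j c : ℕ) : Prop :=
  ∀ n m (h : n + c ≤ m), ∃ φ, Lifts I (show n ≤ m by omega) φ ∧ Kills M φ j

variable [IsNoetherianRing R]

theorem exists_shift : ∀ (j : ℕ) (M : Type u) [AddCommGroup M] [Module R M] [Module.Finite R M],
    ∃ c, Shift I M j c := by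
  intro j
  induction j with
  | zero =>
    intro M _ _ _
    obtain ⟨r, g, hg⟩ := Module.Finite.exists_fin' R M
    obtain ⟨k, hk⟩ := Ideal.exists_pow_inf_eq_pow_smul I (LinearMap.ker g)
    refine ⟨k, fun n m h => ?_⟩
    obtain ⟨φ, hφ⟩ := exists_lifts I (show n ≤ m by omega)
    obtain ⟨ψ, hψ⟩ := exists_lifts I (le_refl n)
    refine ⟨φ ≫ ψ, lifts_comp I (le_refl n) (by omega) hφ hψ,
      kills_zero (K := ↥(LinearMap.ker g)) (ι := (LinearMap.ker g).subtype) (g := g) (LinearMap.exact_subtype_ker_map g) hg (kills₀_of_le I _ _ (fun x hx => ?_) hφ) (kills_of_flat (res I n) ψ 0)⟩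
    have h1 : (x : Fin r → R) ∈ I ^ (m - k) • (LinearMap.ker g) := by
      have h2 : (x : Fin r → R) ∈ I ^ m • ⊤ ⊓ LinearMap.ker g := ⟨hx, x.2⟩
      rw [hk m (by omega)] at h2
      exact Submodule.smul_mono le_rfl inf_le_right h2
    have h3 : (x : Fin r → R) ∈ (I ^ n • (⊤ : Submodule R (LinearMap.ker g))).map (LinearMap.ker g).subtype := by
      rw [Submodule.map_smul'', Submodule.map_top, Submodule.range_subtype]
      exact Submodule.smul_mono_left (Ideal.pow_le_pow_right (by omega)) h1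
    obtain ⟨x', hx', e⟩ := h3
    rwa [← show x' = x from Subtype.ext e]
  | succ j ih =>
    intro M _ _ _
    obtain ⟨r, g, hg⟩ := Module.Finite.exists_fin' R M
    obtain ⟨c, hc⟩ := ih (LinearMap.ker g)
    refine ⟨c, fun n m h => ?_⟩
    obtain ⟨φ, hφ, hk⟩ := hc n m h
    obtain ⟨ψ, hψ⟩ := exists_lifts I (le_refl n)
    exact ⟨φ ≫ ψ, lifts_comp I (le_refl n) (by omega) hφ hψ,
      kills_succ Subtype.val_injective g.exact_subtype_ker_map hg (flat_res I m) j hk
        (kills_of_flat (res I n) ψ (j + 1))⟩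

/-- Uniformity over the modules killed by a fixed power. -/
theorem exists_uniform_shift (m₀ : ℕ) : ∀ (j : ℕ), ∃ c, ∀ (n m : ℕ) (h : n + c ≤ m),
    ∀ (M : Type u) [AddCommGroup M] [Module R M], (∀ a ∈ I ^ m₀, ∀ x : M, a • x = 0) →
      ∃ φ, Lifts I (show n ≤ m by omega) φ ∧ Kills M φ j := by
  have cover : ∀ (M : Type u) [AddCommGroup M] [Module R M], (∀ a ∈ I ^ m₀, ∀ x : M, a • x = 0) →
      ∃ g : (M →₀ (R ⧸ I ^ m₀)) →ₗ[R] M, Function.Surjective g := by
    intro M _ _ hM
    refine ⟨Finsupp.lsum ℕ fun x => Submodule.liftQ (I ^ m₀) (LinearMap.toSpanSingleton R M x)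
      (fun a ha => hM a ha x), fun x => ⟨Finsupp.single x 1, ?_⟩⟩
    rw [Finsupp.lsum_single]
    exact one_smul R x
  have killedF : ∀ (M : Type u) (a : R), a ∈ I ^ m₀ → ∀ v : M →₀ (R ⧸ I ^ m₀), a • v = 0 := by
    intro M a ha v
    ext x
    obtain ⟨r, hr⟩ := Submodule.Quotient.mk_surjective _ (v x)
    rw [Finsupp.smul_apply, ← hr, ← Submodule.Quotient.mk_smul, Finsupp.zero_apply, Submodule.Quotient.mk_eq_zero]
    exact Ideal.mul_mem_right r _ ha
  intro j
  induction j with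
  | zero =>
    obtain ⟨c, hc⟩ := exists_shift I 0 (R ⧸ I ^ m₀)
    refine ⟨c + m₀, fun n m h M _ _ hM => ?_⟩
    obtain ⟨g, hg⟩ := cover M hM
    obtain ⟨φ, hφ⟩ := exists_lifts I (show n + c ≤ m by omega)
    obtain ⟨ψ, hψ, hk⟩ := hc n (n + c) le_rfl
    refine ⟨φ ≫ ψ, lifts_comp I (by omega) (by omega) hφ hψ,
      kills_zero (K := ↥(LinearMap.ker g)) (ι := (LinearMap.ker g).subtype) (g := g) (LinearMap.exact_subtype_ker_map g) hg (kills₀_of_le I _ _ (fun x hx => ?_) hφ) (kills_finsupp hk)⟩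
    have h0 : I ^ m • (⊤ : Submodule R (M →₀ (R ⧸ I ^ m₀))) ≤ ⊥ :=
      Submodule.smul_le.2 fun a ha v _ => by
        rw [killedF M a (Ideal.pow_le_pow_right (by omega) ha) v]; exact zero_mem _
    have : x = 0 := Subtype.ext ((Submodule.mem_bot R).1 (h0 hx))
    rw [this]
    exact zero_mem _
  | succ j ih =>
    obtain ⟨c, hc⟩ := ih
    obtain ⟨d, hd⟩ := exists_shift I (j + 1) (R ⧸ I ^ m₀)
    refine ⟨c + d, fun n m h M _ _ hM => ?_⟩
    obtain ⟨g, hg⟩ := cover M hM
    obtain ⟨φ, hφ, hk⟩ := hc (n + d) m (by omega) (LinearMap.ker g)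
      (fun a ha x => Subtype.ext (killedF M a ha x))
    obtain ⟨ψ, hψ, hk'⟩ := hd n (n + d) le_rfl
    exact ⟨φ ≫ ψ, lifts_comp I (by omega) (by omega) hφ hψ,
      kills_succ Subtype.val_injective g.exact_subtype_ker_map hg (flat_res I m) j hk (kills_finsupp hk')⟩

omit [IsNoetherianRing R] in
/-- A lift killing homology makes `Tor` of the projection zero. -/
theorem tor_map_eq_zero {M : ModuleCat.{u} R} {n m : ℕ} (h : n ≤ m) (j : ℕ)
    (φ : (res I m).complex ⟶ (res I n).complex) (hφ : Lifts I h φ) (hk : Kills M φ j) :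
    ((Tor (ModuleCat.{u} R) (j + 1)).obj M).map (proj I h) = 0 := by
  let F := GrothLib.FlatFP.tensorL M
  let f := (F.mapHomologicalComplex (ComplexShape.down ℕ)).map φ
  let C := (F.mapHomologicalComplex (ComplexShape.down ℕ)).obj (res I m).complex
  let D := (F.mapHomologicalComplex (ComplexShape.down ℕ)).obj (res I n).complex
  have h0 : HomologicalComplex.homologyMap f (j + 1) = 0 := by
    rw [← cancel_epi (C.homologyπ (j + 1)), HomologicalComplex.homologyπ_naturality, Limits.comp_zero]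
    refine ModuleCat.hom_ext (LinearMap.ext fun a => ?_)
    obtain ⟨y, hy⟩ := hk (C.iCycles (j + 1) a) (ConcreteCategory.congr_hom (C.iCycles_d (j + 1) j) a)
    have h1 : HomologicalComplex.cyclesMap f (j + 1) a = D.toCycles (j + 2) (j + 1) y :=
      (ModuleCat.mono_iff_injective (D.iCycles (j + 1))).1 inferInstance
        ((ConcreteCategory.congr_hom (HomologicalComplex.cyclesMap_i f (j + 1)) a).trans
          (hy.symm.trans (ConcreteCategory.congr_hom (D.toCycles_i (j + 2) (j + 1)) y).symm))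
    show D.homologyπ (j + 1) (HomologicalComplex.cyclesMap f (j + 1) a) = 0
    rw [h1]
    exact ConcreteCategory.congr_hom (D.toCycles_comp_homologyπ (j + 2) (j + 1)) y
  have key := ProjectiveResolution.isoLeftDerivedObj_hom_naturality (proj I h) (res I m) (res I n) φ
    (ModuleCat.hom_ext hφ) F (j + 1)
  rw [Functor.comp_map, show (HomologicalComplex.homologyFunctor (ModuleCat.{u} R) _ (j + 1)).map f = 0 from h0,
    Limits.comp_zero] at key
  exact (cancel_mono ((res I n).isoLeftDerivedObj F (j + 1)).hom).1 (key.trans Limits.zero_comp.symm)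

end powers

end GrothLib.TorPro
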